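import Groth.Agent.EtAcyc.K153.TreeDef
import Groth.Agent.Flat2C.BlowProper
import Groth.Agent.Ega2.BlowBasic
import Mathlib.AlgebraicGeometry.Noetherian

/-!
# Tree certificates: making the complement of a dense open a divisor

Blow up the reduced ideal of the complement of `V`.
-/

set_option autoImplicit false
universe u

open CategoryTheory CategoryTheory.Limits AlgebraicGeometry TopologicalSpace

namespace K127.TreeBlow

open K153.TreeDef Groth.Agent.Ega2.BlowBasic

/-- An ideal sheaf on a locally Noetherian scheme is of finite type. -/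
lemma isFiniteTypeIdeal {X : Scheme.{u}} [IsLocallyNoetherian X] (I : X.IdealSheafData) :
    BlowUp.IsFiniteTypeIdeal I := fun U => by
  have : IsNoetherianRing Γ(X, U.1) := IsLocallyNoetherian.component_noetherian U
  exact (isNoetherianRing_iff_ideal_fg _).mp this _

/-- The reduced ideal of the complement of an open subset. -/
noncomputable def cplIdeal {X : Scheme.{u}} (V : X.Opens) : X.IdealSheafData :=
  Scheme.IdealSheafData.vanishingIdeal ⟨(V : Set X)ᶜ, V.2.isClosed_compl⟩

lemma offSupport_cplIdeal {X : Scheme.{u}} (V : X.Opens) : offSupport (cplIdeal V) = V := by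
  ext x
  have h : ((cplIdeal V).support : Set X) = (V : Set X)ᶜ :=
    Scheme.IdealSheafData.coe_support_vanishingIdeal _
  change x ∈ ((cplIdeal V).support : Set X)ᶜ ↔ _
  rw [h, compl_compl]

lemma offSupport_comap {X Y : Scheme.{u}} (b : X ⟶ Y) (I : Y.IdealSheafData) :
    offSupport (I.comap b) = b ⁻¹ᵁ offSupport I := by
  ext x
  change x ∈ offSupport (I.comap b) ↔ b x ∈ offSupport I
  rw [mem_offSupport, mem_offSupport, Scheme.IdealSheafData.support_comap]
  rfl

/-- TREE-BLOW. Make the complement of `V` a divisor. -/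
theorem blow {X : Scheme.{u}} [IsIntegral X] [IsNoetherian X] (V : X.Opens) (hV : (V : Set X).Nonempty) :
    ∃ (X₁ : Scheme.{u}) (_ : IsIntegral X₁) (b : X₁ ⟶ X), IsProper b ∧ Surjective b ∧ LocPrinc (b ⁻¹ᵁ V) ∧
      ((b ⁻¹ᵁ V : X₁.Opens) : Set X₁).Nonempty := by
  obtain ⟨X₁, b, hb⟩ := Groth.Agent.Flat2C.BlowExist.exists_isBlowUp (𝓘 := cplIdeal V)
  have hft := isFiniteTypeIdeal (cplIdeal V)
  have hpr : IsProper b := Groth.Agent.Flat2C.BlowProper.isProper_of_isBlowUp hb hft
  have hE : offSupport ((cplIdeal V).comap b) = b ⁻¹ᵁ V := by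
    rw [offSupport_comap, offSupport_cplIdeal]
  obtain ⟨r, hr, h⟩ := exists_isIso_offSupport hb
  have hne : Nonempty (offSupport (cplIdeal V) : Scheme.{u}) := by
    obtain ⟨x, hx⟩ := hV
    exact ⟨⟨x, by rw [offSupport_cplIdeal]; exact hx⟩⟩
  have hint : IsIntegral (offSupport (cplIdeal V) : Scheme.{u}) := inferInstance
  have hint' : IsIntegral (offSupport ((cplIdeal V).comap b) : Scheme.{u}) :=
    @isIntegral_of_isOpenImmersion _ _ r inferInstance hint ⟨(inv r) hne.some⟩
  have hint₁ : IsIntegral X₁ := isIntegral_of_offSupport hb.1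
  have hsub : ∀ x ∈ V, x ∈ Set.range b := by
    intro x hx
    have hx' : x ∈ offSupport (cplIdeal V) := by rw [offSupport_cplIdeal]; exact hx
    obtain ⟨w, hw⟩ := r.surjective ⟨x, hx'⟩
    refine ⟨(offSupport ((cplIdeal V).comap b)).ι w, ?_⟩
    rw [← Scheme.Hom.comp_apply, ← h, Scheme.Hom.comp_apply, hw]
    rfl
  refine ⟨X₁, hint₁, b, hpr, ⟨fun y => ?_⟩, ?_, ?_⟩
  · have hcl : IsClosed (Set.range b) := b.isClosedMap.isClosed_range
    have hd : Dense (V : Set X) := V.2.dense hV
    have h2 : closure (V : Set X) ⊆ Set.range b := closure_minimal (fun z hz => hsub z hz) hcl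
    rw [hd.closure_eq] at h2
    exact h2 (Set.mem_univ y)
  · intro x
    obtain ⟨W, f, hxW, hf, hD⟩ := exists_basicOpen_eq hb.1 x
    refine ⟨W.1, W.2, f, hxW, fun y hy => ?_⟩
    rw [hD, hE]
    exact ⟨fun h => ⟨hy, h⟩, fun h => h.2⟩
  · obtain ⟨x, hx⟩ := hV
    obtain ⟨y, rfl⟩ := hsub x hx
    exact ⟨y, hx⟩

end K127.TreeBlow
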